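import Cfsg.Prelude.Def_OddOrderLocal
import Cfsg.Agent.Cores.PCore

/-!
# Type I with the corrected third alternative

`Cfsg.IsOfTypeI` asks `O_{p'}(M)` to be cyclic in its third alternative; the local analysis yields this
only for `O_{p'}(M_F)`.  The proof of S0205 uses the predicate and sets of this file throughout.
-/

set_option autoImplicit false

namespace Cfsg.Agent.OddOrder

open Subgroup

variable {G : Type*} [Group G] {M : Subgroup G}

/-- Type I: Frobenius type, and `H = M_F` is TI, or abelian of rank 2, or `exp (M/H) ∣ p - 1` for all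
`p ∣ |H|` and some `O_{p'}(H)` is cyclic. -/
def IsTypeI (M : Subgroup G) : Prop :=
  Cfsg.IsOfTypeF M ∧
  ( Cfsg.IsTISubset (Cfsg.fittingHallOf M : Set G) ∨
    (IsMulCommutative (Cfsg.fittingHallOf M) ∧ Cfsg.RankLE 2 (Cfsg.fittingHallOf M) ∧
      ¬ Cfsg.RankLE 1 (Cfsg.fittingHallOf M)) ∨
    ((∀ p : ℕ, p.Prime → p ∣ Nat.card (Cfsg.fittingHallOf M) →
        Monoid.exponent (M ⧸ Cfsg.fittingHall M) ∣ p - 1) ∧
      ∃ p : ℕ, p.Prime ∧ p ∣ Nat.card (Cfsg.fittingHallOf M) ∧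
        IsCyclic (Cfsg.pPrimeCore p (Cfsg.fittingHallOf M))) )

open scoped Classical in
/-- A(M) with respect to `IsTypeI`. -/
noncomputable def setA (M : Subgroup G) : Set G :=
  if IsTypeI M then
    {a | a ∈ M ∧ a ≠ 1 ∧ ∃ x ∈ Cfsg.fittingHallOf M, x ≠ 1 ∧ a * x = x * a}
  else
    {a | a ∈ ⁅M, M⁆ ∧ a ≠ 1 ∧ ∃ x ∈ Cfsg.typeCore M, x ≠ 1 ∧ a * x = x * a}

/-- A₀(M) with respect to `IsTypeI`. -/
noncomputable def setA0 (M : Subgroup G) : Set G :=
  setA M ∪ {v | ¬ IsTypeI M ∧ ∃ W₁ U W₂ : Subgroup G, Cfsg.IsTypePWith M W₁ U W₂ ∧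
    ∃ m ∈ M, ∃ w ∈ W₁ ⊔ W₂, w ∉ W₁ ∧ w ∉ W₂ ∧ v = m * w * m⁻¹}

/-- `L` supports `M`, with respect to `setA0`. -/
def Supports (L M : Subgroup G) : Prop :=
  IsCoatom L ∧ ∃ x ∈ setA0 M, ¬ centralizer ({x} : Set G) ≤ M ∧ centralizer ({x} : Set G) ≤ L

/-- The predicate of the statements implies the corrected one. -/
theorem IsTypeI.of_isOfTypeI [Finite G] (h : Cfsg.IsOfTypeI M) : IsTypeI M := by
  obtain ⟨hF, h1 | h2 | ⟨h3, p, hp, hd, hc⟩⟩ := h
  · exact ⟨hF, Or.inl h1⟩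
  · exact ⟨hF, Or.inr (Or.inl h2)⟩
  · refine ⟨hF, Or.inr (Or.inr ⟨h3, p, hp, hd, ?_⟩)⟩
    set H := Cfsg.fittingHall M
    have hHn : H.Normal := Cfsg.fittingHall_normal M
    let e : H ≃* Cfsg.fittingHallOf M := H.equivMapOfInjective M.subtype M.subtype_injective
    have hle : (Cfsg.pPrimeCore p (Cfsg.fittingHallOf M)).map
        (H.subtype.comp e.symm.toMonoidHom) ≤ Cfsg.pPrimeCore p M := by
      rw [← map_map, Cores.pPrimeCore_map_mulEquiv]
      exact Cores.map_pPrimeCore_le_of_normal H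
    exact isCyclic_of_injective
      (((H.subtype.comp e.symm.toMonoidHom).comp
        (Cfsg.pPrimeCore p (Cfsg.fittingHallOf M)).subtype).codRestrict (Cfsg.pPrimeCore p M)
          fun x => hle (mem_map_of_mem _ x.2))
      fun a b hab => by
        have h' := congrArg Subtype.val hab
        exact Subtype.ext (e.symm.injective (H.subtype_injective h'))

theorem setA_eq_typeA [Finite G] (h : Cfsg.IsOfTypeI M) : setA M = Cfsg.typeA M := by
  rw [setA, if_pos (IsTypeI.of_isOfTypeI h), Cfsg.typeA, if_pos h]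

end Cfsg.Agent.OddOrder
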