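import Cfsg.Agent.OddOrder.Reduction
import Cfsg.Agent.OddOrder.PF12.NotAllTypeI
import Cfsg.Agent.OddOrder.PF8.Instance
import Cfsg.Agent.S1379
import Cfsg.Agent.S1472

/-!
# Assembly of the odd order theorem

`solvable_of_S1544` has two inputs: Peterfalvi (12.7) for maximal subgroups of weak Type I and
the configuration theorem, Peterfalvi (14), in the shape used by `Reduction.false_of_inputs`.
-/

set_option autoImplicit false
set_option linter.style.haveILetI false

namespace Cfsg.Agent.OddOrder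

open Subgroup

universe u

/-- Peterfalvi (12.7): maximal subgroups of Type I are Frobenius groups with kernel `M_F`. -/
def TypeIFrobenius (G : Type u) [Group G] [Finite G] : Prop :=
  ∀ M : Subgroup G, IsCoatom M → IsTypeI M → ∀ x ∈ Cfsg.fittingHallOf M, x ≠ 1 →
    M ⊓ centralizer ({x} : Set G) ≤ Cfsg.fittingHallOf M

/-- The content of Peterfalvi section 14. -/
def ConfigTheorem (G : Type u) [Group G] [Finite G] : Prop :=
  ∀ (S T W₁ W₂ U V : Subgroup G), IsCoatom S → IsCoatom T →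
      Cfsg.IsTypePWith S W₁ U W₂ → Cfsg.IsTypePWith T W₂ V W₁ → S ⊓ T = W₁ ⊔ W₂ →
      Cfsg.IsOfTypeII S ∨ Cfsg.IsOfTypeII T →
      Cfsg.IsOfTypeII S ∨ Cfsg.IsOfTypeIII S ∨ Cfsg.IsOfTypeIV S ∨ Cfsg.IsOfTypeV S →
      Cfsg.IsOfTypeII T ∨ Cfsg.IsOfTypeIII T ∨ Cfsg.IsOfTypeIV T ∨ Cfsg.IsOfTypeV T →
      Nat.card W₁ < Nat.card W₂ →
      (Nat.card W₁).Prime ∧ (Nat.card W₂).Prime ∧
        Cfsg.IsElementaryAbelian (Nat.card W₂) (Cfsg.fittingHallOf S) ∧
        Nat.card (Cfsg.fittingHallOf S) = Nat.card W₂ ^ Nat.card W₁ ∧ IsCyclic U ∧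
        Nat.card U * (Nat.card W₂ - 1) = Nat.card W₂ ^ Nat.card W₁ - 1 ∧
        (∀ u ∈ U, u ≠ 1 → ∀ x ∈ Cfsg.fittingHallOf S, u * x = x * u → x = 1) ∧
        Nat.Coprime ((Nat.card W₂ ^ Nat.card W₁ - 1) / (Nat.card W₂ - 1)) (Nat.card W₂ - 1) ∧
        U ≤ Subgroup.normalizer (Cfsg.fittingHallOf S : Set G) ∧
        (Nat.card (Cfsg.fittingHallOf T)).Coprime (Nat.card W₂) ∧
        Cfsg.IsElementaryAbelian (Nat.card W₁) (Cfsg.fittingHallOf T) ∧
        W₂ ≤ Subgroup.normalizer (Cfsg.fittingHallOf T : Set G) ∧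
        ∃ y ∈ Cfsg.fittingHallOf T,
          W₂.map (MulAut.conj y).toMonoidHom ≤ Subgroup.normalizer (U : Set G) ∧
          ∃ (F : Type) (_ : Field F) (_ : Fintype F) (f : G → F) (ψ : G → F),
            Fintype.card F = Nat.card W₂ ^ Nat.card W₁ ∧
            Set.BijOn f (Cfsg.fittingHallOf S : Set G) Set.univ ∧
            (∀ x ∈ Cfsg.fittingHallOf S, ∀ x' ∈ Cfsg.fittingHallOf S, f (x * x') = f x + f x') ∧
            (∀ u ∈ U, ψ u ≠ 0 ∧
              ∀ x ∈ Cfsg.fittingHallOf S, f (u * x * u⁻¹) = ψ u * f x) ∧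
            (∀ u ∈ U, ∀ u' ∈ U, ψ (u * u') = ψ u * ψ u') ∧ Set.InjOn ψ (U : Set G) ∧
            (∀ x ∈ Cfsg.fittingHallOf S, x ∈ W₂ ↔ f x ^ Nat.card W₂ = f x)

variable {G : Type u} [Group G] [Finite G]

theorem exists_not_typeI_of_frobenius (hG : Cfsg.IsMinSimpleOddOrder G) (hfrob : TypeIFrobenius G) :
    ∃ M : Subgroup G, IsCoatom M ∧ ¬ IsTypeI M := by
  haveI := hG.2.1
  exact PF12.exists_not_typeI hG.1 (PF8.localFacts hG) (S1379.result hG).2.1 hfrob

/-- No group of odd order is minimal simple, given (12.7) and the configuration theorem. -/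
theorem false_of_S1544 (hG : Cfsg.IsMinSimpleOddOrder G) (hfrob : TypeIFrobenius G)
    (h : ConfigTheorem G) : False :=
  Reduction.false_of_inputs hG (exists_not_typeI_of_frobenius hG hfrob)
    (BG16.maximal_structure hG (BG16.sectionFacts hG)) h
    fun p q _ _ hA F _ _ hF P U Q f ψ hf hfadd hUP hψ hψmul hψinj hU hQ hQp hP0Q y hy hP0U =>
      S1472.result p q hA F hF P U Q f ψ hf hfadd hUP hψ hψmul hψinj hU hQ hQp hP0Q y hy hP0U

/-- The odd order theorem from (12.7) and the configuration theorem. -/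
theorem solvable_of_S1544
    (hfrob : ∀ (G : Type u) [Group G] [Finite G], Cfsg.IsMinSimpleOddOrder G → TypeIFrobenius G)
    (h : ∀ (G : Type u) [Group G] [Finite G], Cfsg.IsMinSimpleOddOrder G → ConfigTheorem G) :
    ∀ (G : Type u) [Group G] [Finite G], Odd (Nat.card G) → Group.IsSolvable G :=
  Reduction.solvable_of_no_minSimple fun G _ _ hG => false_of_S1544 hG (hfrob G hG) (h G hG)

end Cfsg.Agent.OddOrder
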