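import Cfsg.Prelude.Def_OddOrderLocal
import Cfsg.Agent.OddOrder.PF9.TypeP
import Cfsg.Agent.Coprime.SchurZassenhaus
import Cfsg.Agent.S1386
import Cfsg.Agent.OddOrder.WeakType

/-!
# Assembly of the odd order theorem from its four final inputs

`solvable_of_inputs` derives solvability of groups of odd order from

* some maximal subgroup of a minimal simple group of odd order is not of Type I (S1541),
* the structure theorem for the maximal subgroups (S1385),
* the configuration theorem (S1544),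
* the final field-theoretic step (S1472).
-/

set_option autoImplicit false

namespace Cfsg.Agent.OddOrder.Reduction

open Subgroup

universe u

section Conj

variable {G : Type u} [Group G]

theorem map_commutator_conj (g : G) (A B : Subgroup G) :
    (⁅A, B⁆).map (MulAut.conj g).toMonoidHom =
      ⁅A.map (MulAut.conj g).toMonoidHom, B.map (MulAut.conj g).toMonoidHom⁆ :=
  Subgroup.map_commutator A B _

theorem normalizer_preimage_conj (g : G) (X : Set G) :
    Subgroup.normalizer X =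
      (Subgroup.normalizer ((fun x => g * x * g⁻¹) ⁻¹' X)).map (MulAut.conj g).toMonoidHom := by
  ext n
  simp only [Coprime.mem_map_conj, Subgroup.mem_set_normalizer_iff, Set.mem_preimage]
  constructor
  · intro h x
    refine (h (g * x * g⁻¹)).trans (iff_of_eq ?_)
    congr 1
    group
  · intro h x
    have := h (g⁻¹ * x * g)
    rw [show g * (g⁻¹ * x * g) * g⁻¹ = x by group] at this
    refine this.trans (iff_of_eq ?_)
    congr 1
    group

theorem selfNormalizing_conj {W₁ W₂ : Subgroup G} (h : Cfsg.IsSelfNormalizingCyclic W₁ W₂) (g : G) :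
    Cfsg.IsSelfNormalizingCyclic (W₁.map (MulAut.conj g).toMonoidHom)
      (W₂.map (MulAut.conj g).toMonoidHom) := by
  obtain ⟨h1, h2, h3, h4, h5, h6⟩ := h
  have hinj : Function.Injective (MulAut.conj g).toMonoidHom := (MulAut.conj g).injective
  refine ⟨?_, ?_, ?_, ?_, ?_, ?_⟩
  · rwa [Ne, Subgroup.map_eq_bot_iff_of_injective _ hinj]
  · rwa [Ne, Subgroup.map_eq_bot_iff_of_injective _ hinj]
  · rw [← Subgroup.map_inf _ _ _ hinj, h3, Subgroup.map_bot]
  · rintro _ ⟨a, ha, rfl⟩ _ ⟨b, hb, rfl⟩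
    rw [← map_mul, ← map_mul, h4 a ha b hb]
  · rw [← Subgroup.map_sup]
    exact ((W₁ ⊔ W₂).equivMapOfInjective _ hinj).isCyclic.1 h5
  · intro X hX hXne
    rw [normalizer_preimage_conj g X, h6 _ ?_ ?_, Subgroup.map_sup]
    · intro x hx
      have h7 := hX hx
      rw [← Subgroup.map_sup] at h7
      simp only [Set.mem_diff, Set.mem_union, SetLike.mem_coe, Coprime.mem_map_conj] at h7
      have e : g⁻¹ * (g * x * g⁻¹) * g = x := by group
      rw [e] at h7
      exact h7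
    · obtain ⟨x, hx⟩ := hXne
      exact ⟨g⁻¹ * x * g, by simpa [mul_assoc] using hx⟩

theorem selfNormalizing_symm {W₁ W₂ : Subgroup G} (h : Cfsg.IsSelfNormalizingCyclic W₁ W₂) :
    Cfsg.IsSelfNormalizingCyclic W₂ W₁ := by
  obtain ⟨h1, h2, h3, h4, h5, h6⟩ := h
  refine ⟨h2, h1, by rwa [inf_comm], fun a ha b hb => (h4 b hb a ha).symm, by rwa [sup_comm],
    fun X hX hne => ?_⟩
  rw [sup_comm]
  exact h6 X (by rwa [sup_comm, Set.union_comm]) hne

theorem coprime_card_of_selfNormalizing [Finite G] {W₁ W₂ : Subgroup G}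
    (h : Cfsg.IsSelfNormalizingCyclic W₁ W₂) : (Nat.card W₁).Coprime (Nat.card W₂) := by
  obtain ⟨-, -, h3, h4, h5, -⟩ := h
  let f : W₁ × W₂ →* ↥(W₁ ⊔ W₂) := MonoidHom.mk'
    (fun x => ⟨(x.1 : G) * x.2, mul_mem_sup x.1.2 x.2.2⟩) fun a b => Subtype.ext (by
      change (a.1 : G) * b.1 * ((a.2 : G) * b.2) = (a.1 : G) * a.2 * ((b.1 : G) * b.2)
      rw [mul_assoc, ← mul_assoc (b.1 : G), h4 b.1 b.1.2 a.2 a.2.2, ← mul_assoc, ← mul_assoc,
        ← mul_assoc])
  have hf : Function.Injective f := (injective_iff_map_eq_one f).2 fun x hx => by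
    have e : (x.1 : G) * x.2 = 1 := congrArg Subtype.val hx
    have hm : (x.1 : G) ∈ W₁ ⊓ W₂ := ⟨x.1.2, eq_inv_of_mul_eq_one_left e ▸ W₂.inv_mem x.2.2⟩
    rw [h3, Subgroup.mem_bot] at hm
    rw [hm, one_mul] at e
    exact Prod.ext (Subtype.ext hm) (Subtype.ext e)
  haveI : IsCyclic (W₁ × W₂) := isCyclic_of_injective f hf
  exact (Group.isCyclic_prod_iff.1 this).2.2

theorem typePWith_conj [Finite G] {M W₁ U W₂ : Subgroup G} (hP : Cfsg.IsTypePWith M W₁ U W₂)
    {m : G} (hm : m ∈ M) :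
    Cfsg.IsTypePWith M (W₁.map (MulAut.conj m).toMonoidHom) (U.map (MulAut.conj m).toMonoidHom)
      (W₂.map (MulAut.conj m).toMonoidHom) := by
  have hinj : Function.Injective (MulAut.conj m).toMonoidHom := (MulAut.conj m).injective
  have hM : M.map (MulAut.conj m).toMonoidHom = M := Coprime.map_conj_eq (Subgroup.le_normalizer hm)
  have hM1 : (⁅M, M⁆).map (MulAut.conj m).toMonoidHom = ⁅M, M⁆ := by rw [map_commutator_conj, hM]
  have hM2 : (⁅⁅M, M⁆, ⁅M, M⁆⁆).map (MulAut.conj m).toMonoidHom = ⁅⁅M, M⁆, ⁅M, M⁆⁆ := by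
    rw [map_commutator_conj, hM1]
  have hH : (Cfsg.fittingHallOf M).map (MulAut.conj m).toMonoidHom = Cfsg.fittingHallOf M :=
    Coprime.map_conj_eq (TypeP.le_normalizer_core M hm)
  have hcompl : ∀ {A B C : Subgroup G}, Cfsg.IsComplIn A B C →
      Cfsg.IsComplIn (A.map (MulAut.conj m).toMonoidHom) (B.map (MulAut.conj m).toMonoidHom)
        (C.map (MulAut.conj m).toMonoidHom) := fun {A B C} h =>
    ⟨Subgroup.map_mono h.1, Subgroup.map_mono h.2.1,
      by rw [← Subgroup.map_inf _ _ _ hinj, h.2.2.1, Subgroup.map_bot], by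
        rintro _ ⟨c, hc, rfl⟩
        obtain ⟨a, ha, b, hb, rfl⟩ := h.2.2.2 c hc
        exact ⟨_, ⟨a, ha, rfl⟩, _, ⟨b, hb, rfl⟩, map_mul _ _ _⟩⟩
  exact
    { W₁_ne := by rw [Ne, Subgroup.map_eq_bot_iff_of_injective _ hinj]; exact hP.W₁_ne
      W₁_cyclic := (W₁.equivMapOfInjective _ hinj).isCyclic.1 hP.W₁_cyclic
      W₁_hall := by
        have e := Subgroup.relIndex_map_map_of_injective W₁ M hinj
        rw [hM] at e
        rw [e, Coprime.card_map_conj]
        exact hP.W₁_hall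
      W₁_compl := by have := hcompl hP.W₁_compl; rwa [hM1, hM] at this
      U_nilpotent := by
        haveI := hP.U_nilpotent
        exact Group.nilpotent_of_mulEquiv (U.equivMapOfInjective _ hinj)
      U_normal := TypeP.conj_le_normalizer hP.U_normal m
      U_compl := by have := hcompl hP.U_compl; rwa [hH, hM1] at this
      H_not_cyclic := hP.H_not_cyclic
      derived_two_le := hP.derived_two_le
      fitting_eq := hP.fitting_eq
      fitting_le := hP.fitting_le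
      W₂_le := by
        refine (Subgroup.map_mono hP.W₂_le).trans_eq ?_
        rw [Subgroup.map_inf _ _ _ hinj, hH, hM2]
      W₂_centralizer := by
        rintro _ ⟨x, hx, rfl⟩ h1
        rw [← hP.W₂_centralizer x hx (fun e => h1 (by rw [e, map_one])), Subgroup.map_inf _ _ _ hinj,
          hM1]
        congr 1
        ext y
        simp only [Coprime.mem_map_conj, Subgroup.mem_centralizer_singleton_iff]
        change y * (m * x * m⁻¹) = m * x * m⁻¹ * y ↔ _
        constructor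
        · intro h
          calc m⁻¹ * y * m * x = m⁻¹ * (y * (m * x * m⁻¹)) * m := by group
            _ = x * (m⁻¹ * y * m) := by rw [h]; group
        · intro h
          calc y * (m * x * m⁻¹) = m * (m⁻¹ * y * m * x) * m⁻¹ := by group
            _ = m * x * m⁻¹ * y := by rw [h]; group
      selfNormalizing := selfNormalizing_conj hP.selfNormalizing m }

end Conj

variable {G : Type u} [Group G]

theorem typeP_of_type {M : Subgroup G}
    (h : Cfsg.IsOfTypeII M ∨ Cfsg.IsOfTypeIII M ∨ Cfsg.IsOfTypeIV M ∨ Cfsg.IsOfTypeV M) :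
    Cfsg.IsOfTypeP M := by
  rcases h with ⟨a, b, c, h, -⟩ | ⟨a, b, c, h, -⟩ | ⟨a, b, c, h, -⟩ | ⟨a, b, c, h, -⟩ <;>
    exact ⟨a, b, c, h⟩

/-- Type-P data of `S` adapted to a given self-normalising cyclic pair. -/
theorem exists_data [Finite G] {S W₁ W₂ : Subgroup G} (hW : Cfsg.IsSelfNormalizingCyclic W₁ W₂)
    (hS : Cfsg.IsComplIn ⁅S, S⁆ W₁ S) (hW₂S : W₂ ≤ S) (hP : Cfsg.IsOfTypeP S) :
    ∃ U, Cfsg.IsTypePWith S W₁ U W₂ := by
  obtain ⟨A, U, B, hP⟩ := hP
  have hsup : ⁅S, S⁆ ⊔ A = S := by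
    refine le_antisymm (sup_le (TypeP.derived_le S) (TypeP.W₁_le hP)) fun m hm => ?_
    obtain ⟨a, ha, w, hw, rfl⟩ := hP.W₁_compl.2.2.2 m hm
    exact mul_mem_sup ha hw
  have hcard : Nat.card W₁ = Nat.card A :=
    Nat.eq_of_mul_eq_mul_left Nat.card_pos ((H41.IsComplIn.card_eq hS).symm.trans (TypeP.card_eq hP))
  obtain ⟨n, hn, rfl⟩ := Coprime.exists_conj_of_le_sup
    ((TypeP.W₁_le hP).trans (TypeP.le_normalizer_derived S)) (hS.2.1.trans hsup.ge) hcard
    (TypeP.coprime_derived_W₁ hP).symm (Or.inl (TypeP.W₁_solvable hP))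
  have hP' := typePWith_conj hP (TypeP.derived_le S hn)
  have e := Cfsg.Agent.S1386.result _ W₂ S _ _ hW hS hW₂S hP'
  rw [e] at hP'
  exact ⟨_, hP'⟩

/-- The four inputs exclude a minimal simple group of odd order. -/
theorem false_of_inputs [Finite G] (hG : Cfsg.IsMinSimpleOddOrder G)
    (h1541 : ∃ M : Subgroup G, IsCoatom M ∧ ¬ IsTypeI M)
    (h1385 : (∀ M : Subgroup G, IsCoatom M → IsTypeI M) ∨
      ∃ W₁ W₂ S T : Subgroup G, Cfsg.IsSelfNormalizingCyclic W₁ W₂ ∧ IsCoatom S ∧ IsCoatom T ∧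
        Cfsg.IsComplIn ⁅S, S⁆ W₁ S ∧ Cfsg.IsComplIn ⁅T, T⁆ W₂ T ∧ S ⊓ T = W₁ ⊔ W₂ ∧
        (Cfsg.IsOfTypeII S ∨ Cfsg.IsOfTypeII T) ∧
        (Cfsg.IsOfTypeII S ∨ Cfsg.IsOfTypeIII S ∨ Cfsg.IsOfTypeIV S ∨ Cfsg.IsOfTypeV S) ∧
        (Cfsg.IsOfTypeII T ∨ Cfsg.IsOfTypeIII T ∨ Cfsg.IsOfTypeIV T ∨ Cfsg.IsOfTypeV T) ∧
        ∀ M : Subgroup G, IsCoatom M → IsTypeI M ∨ ∃ g : G,
          M = S.map (MulAut.conj g).toMonoidHom ∨ M = T.map (MulAut.conj g).toMonoidHom)
    (h1544 : ∀ (S T W₁ W₂ U V : Subgroup G), IsCoatom S → IsCoatom T →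
      Cfsg.IsTypePWith S W₁ U W₂ → Cfsg.IsTypePWith T W₂ V W₁ → S ⊓ T = W₁ ⊔ W₂ →
      Cfsg.IsOfTypeII S ∨ Cfsg.IsOfTypeII T →
      Cfsg.IsOfTypeII S ∨ Cfsg.IsOfTypeIII S ∨ Cfsg.IsOfTypeIV S ∨ Cfsg.IsOfTypeV S →
      Cfsg.IsOfTypeII T ∨ Cfsg.IsOfTypeIII T ∨ Cfsg.IsOfTypeIV T ∨ Cfsg.IsOfTypeV T →
      Nat.card W₁ < Nat.card W₂ →
      (Nat.card W₁).Prime ∧ (Nat.card W₂).Prime ∧
        Cfsg.IsElementaryAbelian (Nat.card W₂) (Cfsg.fittingHallOf S) ∧
        Nat.card (Cfsg.fittingHallOf S) = Nat.card W₂ ^ Nat.card W₁ ∧ IsCyclic U ∧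
        Nat.card U * (Nat.card W₂ - 1) = Nat.card W₂ ^ Nat.card W₁ - 1 ∧
        (∀ u ∈ U, u ≠ 1 → ∀ x ∈ Cfsg.fittingHallOf S, u * x = x * u → x = 1) ∧
        Nat.Coprime ((Nat.card W₂ ^ Nat.card W₁ - 1) / (Nat.card W₂ - 1)) (Nat.card W₂ - 1) ∧
        U ≤ Subgroup.normalizer (Cfsg.fittingHallOf S : Set G) ∧
        (Nat.card (Cfsg.fittingHallOf T)).Coprime (Nat.card W₂) ∧
        Cfsg.IsElementaryAbelian (Nat.card W₁) (Cfsg.fittingHallOf T) ∧
        W₂ ≤ Subgroup.normalizer (Cfsg.fittingHallOf T : Set G) ∧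
        ∃ y ∈ Cfsg.fittingHallOf T,
          W₂.map (MulAut.conj y).toMonoidHom ≤ Subgroup.normalizer (U : Set G) ∧
          ∃ (F : Type) (_ : Field F) (_ : Fintype F) (f : G → F) (ψ : G → F),
            Fintype.card F = Nat.card W₂ ^ Nat.card W₁ ∧
            Set.BijOn f (Cfsg.fittingHallOf S : Set G) Set.univ ∧
            (∀ x ∈ Cfsg.fittingHallOf S, ∀ x' ∈ Cfsg.fittingHallOf S, f (x * x') = f x + f x') ∧
            (∀ u ∈ U, ψ u ≠ 0 ∧
              ∀ x ∈ Cfsg.fittingHallOf S, f (u * x * u⁻¹) = ψ u * f x) ∧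
            (∀ u ∈ U, ∀ u' ∈ U, ψ (u * u') = ψ u * ψ u') ∧ Set.InjOn ψ (U : Set G) ∧
            (∀ x ∈ Cfsg.fittingHallOf S, x ∈ W₂ ↔ f x ^ Nat.card W₂ = f x))
    (h1472 : ∀ (p q : ℕ) [Fact p.Prime] [Fact q.Prime],
      Nat.Coprime ((p ^ q - 1) / (p - 1)) (p - 1) →
      ∀ (F : Type) [Field F] [Fintype F], Fintype.card F = p ^ q →
      ∀ (P U Q : Subgroup G) (f ψ : G → F), Set.BijOn f (P : Set G) Set.univ →
      (∀ x ∈ P, ∀ z ∈ P, f (x * z) = f x + f z) → U ≤ Subgroup.normalizer (P : Set G) →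
      (∀ u ∈ U, ψ u ≠ 0 ∧ ∀ x ∈ P, f (u * x * u⁻¹) = ψ u * f x) →
      (∀ u ∈ U, ∀ v ∈ U, ψ (u * v) = ψ u * ψ v) → Set.InjOn ψ (U : Set G) →
      Nat.card U * (p - 1) = p ^ q - 1 → IsMulCommutative Q → (Nat.card Q).Coprime p →
      (∀ x ∈ P, f x ^ p = f x → x ∈ Subgroup.normalizer (Q : Set G)) →
      ∀ y ∈ Q, (∀ x ∈ P, f x ^ p = f x → y * x * y⁻¹ ∈ Subgroup.normalizer (U : Set G)) → p ≤ q) :
    False := by
  obtain ⟨M, hM, hMI⟩ := h1541
  rcases h1385 with hall | ⟨W₁, W₂, S, T, hW, hS, hT, hSc, hTc, hST, hII, hS25, hT25, -⟩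
  · exact hMI (hall M hM)
  suffices key : ∀ (S T W₁ W₂ : Subgroup G), Cfsg.IsSelfNormalizingCyclic W₁ W₂ → IsCoatom S →
      IsCoatom T → Cfsg.IsComplIn ⁅S, S⁆ W₁ S → Cfsg.IsComplIn ⁅T, T⁆ W₂ T → S ⊓ T = W₁ ⊔ W₂ →
      Cfsg.IsOfTypeII S ∨ Cfsg.IsOfTypeII T →
      Cfsg.IsOfTypeII S ∨ Cfsg.IsOfTypeIII S ∨ Cfsg.IsOfTypeIV S ∨ Cfsg.IsOfTypeV S →
      Cfsg.IsOfTypeII T ∨ Cfsg.IsOfTypeIII T ∨ Cfsg.IsOfTypeIV T ∨ Cfsg.IsOfTypeV T →
      Nat.card W₂ ≤ Nat.card W₁ by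
    have h1 := key S T W₁ W₂ hW hS hT hSc hTc hST hII hS25 hT25
    have h2 := key T S W₂ W₁ (selfNormalizing_symm hW) hT hS hTc hSc
      (by rw [inf_comm, hST, sup_comm]) hII.symm hT25 hS25
    have hco := coprime_card_of_selfNormalizing hW
    rw [le_antisymm h2 h1, Nat.coprime_self] at hco
    exact hW.2.1 (Subgroup.eq_bot_of_card_eq _ hco)
  intro S T W₁ W₂ hW hS hT hSc hTc hST hII hS25 hT25
  by_contra hlt
  obtain ⟨U, hSP⟩ := exists_data hW hSc (le_sup_right.trans (hST.ge.trans inf_le_left))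
    (typeP_of_type hS25)
  obtain ⟨V, hTP⟩ := exists_data (selfNormalizing_symm hW) hTc
    (le_sup_left.trans (hST.ge.trans inf_le_right)) (typeP_of_type hT25)
  obtain ⟨hq, hp, -, -, -, hUcard, -, hA, hUP, hQp, hQe, hW₂Q, y, hy, hyU, F, _, _, f, ψ, hF, hf,
    hfadd, hψ, hψmul, hψinj, hprime⟩ :=
    h1544 S T W₁ W₂ U V hS hT hSP hTP hST hII hS25 hT25 (not_le.1 hlt)
  haveI := Fact.mk hp
  haveI := Fact.mk hq
  refine hlt (h1472 (Nat.card W₂) (Nat.card W₁) hA F hF (Cfsg.fittingHallOf S) U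
    (Cfsg.fittingHallOf T) f ψ hf hfadd hUP hψ hψmul hψinj hUcard ?_ hQp
    (fun x hx hfx => hW₂Q ((hprime x hx).2 hfx)) y hy
    fun x hx hfx => hyU ⟨x, (hprime x hx).2 hfx, rfl⟩)
  exact hQe.1

/-- A minimal counterexample is a minimal simple group of odd order. -/
theorem solvable_of_no_minSimple
    (h : ∀ (G : Type u) [Group G] [Finite G], Cfsg.IsMinSimpleOddOrder G → False) :
    ∀ (G : Type u) [Group G] [Finite G], Odd (Nat.card G) → Group.IsSolvable G := by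
  suffices key : ∀ (n : ℕ) (G : Type u) [Group G] [Finite G], Nat.card G = n → Odd n →
      Group.IsSolvable G from fun G _ _ hG => key _ G rfl hG
  intro n
  induction n using Nat.strong_induction_on with
  | _ n ih =>
    intro G _ _ hn hodd
    by_contra hns
    have hsub : ∀ H : Subgroup G, H ≠ ⊤ → Group.IsSolvable H := by
      intro H hH
      have hidx : 1 < H.index := by
        have := Subgroup.one_lt_index_of_ne_top hH
        exact this
      have hmul := H.card_mul_index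
      have hpos : 0 < Nat.card H := Nat.card_pos
      refine ih (Nat.card H) (by rw [← hn, ← hmul]; exact lt_mul_of_one_lt_right hpos hidx) H rfl ?_
      rw [← hn, ← hmul] at hodd
      exact Nat.Odd.of_mul_left hodd
    have hna : ¬ IsMulCommutative G := fun hc =>
      hns (Group.isSolvable_of_comm fun a b => hc.is_comm.comm a b)
    haveI : Nontrivial G := by
      by_contra hnt
      rw [not_nontrivial_iff_subsingleton] at hnt
      exact hns (Group.isSolvable_of_comm fun a b => Subsingleton.elim _ _)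
    refine h G ⟨hn ▸ hodd, { eq_bot_or_eq_top_of_normal := fun N hN => ?_ }, hna, hsub⟩
    by_contra hcon
    simp only [not_or] at hcon
    obtain ⟨hbot, htop⟩ := hcon
    haveI := hN
    have h1 : 1 < Nat.card N := (Subgroup.one_lt_card_iff_ne_bot N).2 hbot
    have hmul := N.card_mul_index
    have hq : Group.IsSolvable (G ⧸ N) := by
      have hpos : 0 < N.index := Nat.pos_of_ne_zero (fun e => by
        rw [e, mul_zero] at hmul; exact Nat.card_pos.ne hmul)
      refine ih N.index (by rw [← hn, ← hmul]; exact lt_mul_of_one_lt_left hpos h1) (G ⧸ N)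
        N.index_eq_card.symm ?_
      rw [← hn, ← hmul] at hodd
      exact Nat.Odd.of_mul_right hodd
    exact hns ((Group.isSolvable_iff_subgroup_quotient N).2 ⟨hsub N htop, hq⟩)

end Cfsg.Agent.OddOrder.Reduction
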